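import Groth.Agent.AlgSpQC.Gen2

/-!
# Free modules on a site of affine schemes
-/

set_option autoImplicit false
set_option linter.style.haveILetI false
set_option linter.unusedSectionVars false
set_option backward.isDefEq.respectTransparency false
set_option backward.isDefEq.respectTransparency.types false
set_option maxHeartbeats 800000

universe v u

open CategoryTheory Limits Opposite TensorProduct

noncomputable section

namespace Groth.Agent.AlgSpLocFree

section Algebra

variable {R : Type v} [CommRing R] {N : Type v} [AddCommGroup N] [Module R N]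

/-- A finitely presented flat module is free near each prime. -/
theorem exists_free_away [Module.FinitePresentation R N] [Module.Flat R N] (p : PrimeSpectrum R) :
    ∃ r ∉ p.asIdeal, Module.Free (Localization.Away r) (LocalizedModule.Away r N) := by
  haveI : Module.Free (Localization.AtPrime p.asIdeal) (LocalizedModule p.asIdeal.primeCompl N) :=
    Module.mem_freeLocus.1 ((Module.freeLocus_eq_univ (R := R) (M := N)).symm ▸ Set.mem_univ p)
  obtain ⟨r, hr, hf, -⟩ := Module.FinitePresentation.exists_free_localizedModule_powers p.asIdeal.primeCompl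
    (LocalizedModule.mkLinearMap p.asIdeal.primeCompl N) (Localization.AtPrime p.asIdeal)
  exact ⟨r, hr, hf⟩

/-- Freeness away from an element passes to algebras in which it is a unit. -/
theorem free_baseChange_of_away (r : R) [Module.Free (Localization.Away r) (LocalizedModule.Away r N)]
    (B : Type v) [CommRing B] [Algebra R B] (hu : IsUnit (algebraMap R B r)) : Module.Free B (B ⊗[R] N) := by
  let A := Localization.Away r
  letI : Algebra A B := (IsLocalization.Away.lift r hu).toAlgebra
  haveI : IsScalarTower R A B :=
    IsScalarTower.of_algebraMap_eq fun x => (IsLocalization.Away.lift_eq r hu x).symm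
  haveI : Module.Free A (A ⊗[R] N) :=
    Module.Free.of_equiv (LocalizedModule.equivTensorProduct (Submonoid.powers r) N)
  exact Module.Free.of_equiv (TensorProduct.AlgebraTensorModule.cancelBaseChange R A B B N)

end Algebra

open AlgSpQC

variable {C : Type (u + 1)} [Category.{u} C] {J : GrothendieckTopology C} {O : Sheaf J CommRingCat.{u + 1}}
  {Aff : C → Prop} (H : AffSite J O.obj Aff)
  [HasSheafify J AddCommGrpCat.{u + 1}] [J.WEqualsLocallyBijective AddCommGrpCat.{u + 1}]

include H in
/-- A morphism bijective on the affine objects is an isomorphism. -/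
theorem isIso_of_bijective_aff {M N : SheafOfModules.{u + 1} (RS O)} (g : M ⟶ N)
    (hb : ∀ X, Aff X → Function.Bijective (g.val.app (op X))) : IsIso g := by
  let g' := (SheafOfModules.toSheaf (RS O)).map g
  haveI : Sheaf.IsLocallyInjective g' := ⟨fun {U} x y hxy => by
    obtain ⟨R, hR, hRA⟩ := H.exists_affine U.unop
    refine J.superset_covering ?_ hR
    intro V v hv
    obtain ⟨Z, h, k, hZ, e⟩ := hRA v hv
    have hk : M.val.presheaf.map k.op x = M.val.presheaf.map k.op y := (hb Z hZ).1 <| by
      refine (NatTrans.naturality_apply g'.hom k.op x).trans ?_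
      exact (congrArg (N.val.presheaf.map k.op) hxy).trans (NatTrans.naturality_apply g'.hom k.op y).symm
    show M.val.presheaf.map v.op x = M.val.presheaf.map v.op y
    rw [← e, op_comp, Functor.map_comp, ConcreteCategory.comp_apply, ConcreteCategory.comp_apply, hk]⟩
  haveI : Sheaf.IsLocallySurjective g' := ⟨fun {U} y => by
    obtain ⟨R, hR, hRA⟩ := H.exists_affine U
    refine J.superset_covering ?_ hR
    intro V v hv
    obtain ⟨Z, h, k, hZ, e⟩ := hRA v hv
    obtain ⟨p, hp⟩ := (hb Z hZ).2 (N.val.presheaf.map k.op y)
    refine ⟨M.val.presheaf.map h.op p, ?_⟩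
    refine (NatTrans.naturality_apply g'.hom h.op p).trans ?_
    refine (congrArg (N.val.presheaf.map h.op) hp).trans ?_
    show N.val.presheaf.map h.op (N.val.presheaf.map k.op y) = N.val.presheaf.map v.op y
    rw [← ConcreteCategory.comp_apply, ← Functor.map_comp, ← op_comp, e]⟩
  haveI : IsIso g' := (Sheaf.isLocallyBijective_iff_isIso g').1 ⟨inferInstance, inferInstance⟩
  exact isIso_of_reflects_iso g (SheafOfModules.toSheaf (RS O))

/-- Free modules of finite rank have free sections. -/
theorem exists_basis_free (I : Type (u + 1)) [Finite I] (X : C) :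
    ∃ b : Module.Basis I (O.obj.obj (op X)) ((evalC O.obj X).obj (SheafOfModules.free (R := RS O) I).val),
      ∀ i, b i = (SheafOfModules.freeSection (R := RS O) i).val (op X) := by
  classical
  haveI := Fintype.ofFinite I
  let e : I → (evalC O.obj X).obj (SheafOfModules.free (R := RS O) I).val := fun i =>
    (SheafOfModules.freeSection (R := RS O) i).val (op X)
  let p : I → (SheafOfModules.free (R := RS O) I ⟶ SheafOfModules.unit (RS O)) := fun i =>
    Sigma.desc fun j => if j = i then 𝟙 _ else 0
  have hp : ∀ i j, (show O.obj.obj (op X) from (p i).val.app (op X) (e j)) = if j = i then 1 else 0 := by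
    intro i j
    have h : (SheafOfModules.unit (RS O)).freeHomEquiv (p i) j =
        (SheafOfModules.unit (RS O)).unitHomEquiv (if j = i then 𝟙 _ else 0) :=
      congrArg (SheafOfModules.unit (RS O)).unitHomEquiv (Sigma.ι_desc _ j)
    refine (congrArg (fun s : (SheafOfModules.unit (RS O)).sections => s.val (op X)) h).trans ?_
    split_ifs <;> rfl
  have hid : 𝟙 (SheafOfModules.free (R := RS O) I) = ∑ i, p i ≫ SheafOfModules.ιFree i := by
    refine Cofan.IsColimit.hom_ext (SheafOfModules.isColimitFreeCofan I) _ _ fun j => ?_
    refine (Category.comp_id _).trans ?_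
    rw [SheafOfModules.freeCofan_inj]
    refine Eq.trans ?_ (Preadditive.comp_sum _ (SheafOfModules.ιFree (R := RS O) j) _).symm
    rw [Finset.sum_eq_single j]
    · rw [← Category.assoc]
      show SheafOfModules.ιFree j = (Sigma.ι (fun _ : I => SheafOfModules.unit (RS O)) j ≫ Sigma.desc _) ≫ _
      rw [Sigma.ι_desc, if_pos rfl, Category.id_comp]
    · intro i _ hij
      rw [← Category.assoc]
      show (Sigma.ι (fun _ : I => SheafOfModules.unit (RS O)) j ≫ Sigma.desc _) ≫ _ = 0
      rw [Sigma.ι_desc, if_neg (Ne.symm hij), zero_comp]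
    · simp
  have hw : ∀ w : (evalC O.obj X).obj (SheafOfModules.free (R := RS O) I).val,
      w = ∑ i, (show O.obj.obj (op X) from (p i).val.app (op X) w) • e i := fun w => by
    have := congrArg (fun φ : SheafOfModules.free (R := RS O) I ⟶ SheafOfModules.free (R := RS O) I =>
      φ.val.app (op X) w) hid
    refine this.trans ?_
    refine (map_sum (AddMonoidHom.mk' (fun φ : SheafOfModules.free (R := RS O) I ⟶ SheafOfModules.free (R := RS O) I =>
      (show (evalC O.obj X).obj (SheafOfModules.free (R := RS O) I).val from φ.val.app (op X) w))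
      (fun _ _ => rfl)) (fun i => p i ≫ SheafOfModules.ιFree i) Finset.univ).trans ?_
    refine Finset.sum_congr rfl fun i _ => ?_
    let a : (RS O).obj.obj (op X) := (p i).val.app (op X) w
    show (SheafOfModules.ιFree (R := RS O) i).val.app (op X) a = a • e i
    refine Eq.trans ?_ (((SheafOfModules.ιFree (R := RS O) i).val.app (op X)).hom.map_smul a
      (show (SheafOfModules.unit (RS O)).val.obj (op X) from (1 : (RS O).obj.obj (op X))) |>.trans ?_)
    · exact congrArg _ (mul_one a).symm
    · rfl
  have hli : LinearIndependent (O.obj.obj (op X)) e := by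
    rw [linearIndependent_iff']
    intro s c hc i hi
    let L : (evalC O.obj X).obj (SheafOfModules.free (R := RS O) I).val →ₗ[O.obj.obj (op X)]
        (evalC O.obj X).obj (SheafOfModules.unit (RS O)).val := ((evalC O.obj X).map (p i).val).hom
    have h : L (∑ j ∈ s, c j • e j) = 0 := (congrArg L hc).trans (map_zero L)
    rw [map_sum] at h
    have he : ∀ j, L (c j • e j) = (show (evalC O.obj X).obj (SheafOfModules.unit (RS O)).val from
        if j = i then c j else 0) := fun j => by
      refine (map_smul L (c j) _).trans ?_
      show c j * _ = _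
      refine (congrArg (c j * ·) (hp i j)).trans ?_
      split_ifs <;> simp
    simp only [he] at h
    exact (show (∑ j ∈ s, (if j = i then c j else 0 : O.obj.obj (op X))) = c i by
      rw [Finset.sum_ite_eq']; simp [hi]).symm.trans h
  have hsp : ⊤ ≤ Submodule.span (O.obj.obj (op X)) (Set.range e) := fun w _ => by
    rw [hw w]
    exact Submodule.sum_mem _ fun i _ => Submodule.smul_mem _ _ (Submodule.subset_span ⟨i, rfl⟩)
  exact ⟨Module.Basis.mk hli hsp, fun i => Module.Basis.mk_apply _ _ i⟩

variable {T : C} (hT : IsTerminal T)

include H in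
/-- Generators given by a basis of the sections over an affine final object are free. -/
theorem isIso_genOf_π {M : SheafOfModules.{u + 1} (RS O)} (hM : BC Aff M) (hTA : Aff T) {I : Type (u + 1)}
    [Finite I] (b : Module.Basis I (O.obj.obj (op T)) ((evalC O.obj T).obj M.val)) :
    IsIso (genOf H hT hM hTA b b.span_eq).π := by
  refine isIso_of_bijective_aff H _ fun X hX => ?_
  obtain ⟨e, he⟩ := exists_basis_free (O := O) I X
  letI : Algebra (O.obj.obj (op T)) (O.obj.obj (op X)) := (rh O.obj (hT.from X)).toAlgebra
  haveI := hM (hT.from X) hTA hX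
  let b' : Module.Basis I (O.obj.obj (op X)) ((evalC O.obj X).obj M.val) :=
    (Algebra.TensorProduct.basis (O.obj.obj (op X)) b).map
      (asIso ((θ O.obj (hT.from X)).app M.val)).toLinearEquiv
  let L : (evalC O.obj X).obj (SheafOfModules.free (R := RS O) I).val →ₗ[O.obj.obj (op X)]
      (evalC O.obj X).obj M.val := ((evalC O.obj X).map (genOf H hT hM hTA b b.span_eq).π.val).hom
  have hL : L = (e.equiv b' (Equiv.refl I)).toLinearMap := e.ext fun i => by
    refine Eq.trans ?_ (e.equiv_apply i b' (Equiv.refl I)).symm
    rw [he i]
    refine (congrArg (fun s : M.sections => s.val (op X))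
      (SheafOfModules.sectionsMap_freeHomEquiv_symm_freeSection (fun i => secOf hT M (b i)) i)).trans ?_
    refine Eq.trans ?_ ((Module.Basis.map_apply (Algebra.TensorProduct.basis (O.obj.obj (op X)) b)
      (asIso ((θ O.obj (hT.from X)).app M.val)).toLinearEquiv i).trans
        (congrArg _ (Algebra.TensorProduct.basis_apply b i))).symm
    exact ((θ_tmul M.val (hT.from X) 1 (b i)).trans (one_smul _ _)).symm
  show Function.Bijective L
  rw [hL]
  exact LinearEquiv.bijective _

include H in
/-- Finite free generators give free finite sections on affines. -/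
theorem free_of_isIso_π {M : SheafOfModules.{u + 1} (RS O)} (g : M.GeneratingSections) [IsIso g.π] [Finite g.I]
    (X : C) : Module.Free (O.obj.obj (op X)) ((evalC O.obj X).obj M.val) ∧
      Module.Finite (O.obj.obj (op X)) ((evalC O.obj X).obj M.val) := by
  obtain ⟨e, -⟩ := exists_basis_free (O := O) g.I X
  let φ : (evalC O.obj X).obj (SheafOfModules.free (R := RS O) g.I).val ≅ (evalC O.obj X).obj M.val :=
    (evalC O.obj X).mapIso ((SheafOfModules.forget (RS O)).mapIso (asIso g.π))
  exact ⟨Module.Free.of_basis (e.map φ.toLinearEquiv), Module.Finite.of_basis (e.map φ.toLinearEquiv)⟩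

end Groth.Agent.AlgSpLocFree

end

namespace Groth.Agent.AlgSpLocFree

/-- Flatness descends along a finite jointly faithfully flat family. -/
theorem flat_of_family {R N : Type v} [CommRing R] [AddCommGroup N] [Module R N] {ι : Type v} [Finite ι]
    (B : ι → Type v) [∀ i, CommRing (B i)] [∀ i, Algebra R (B i)] [∀ i, Module.Flat R (B i)]
    [Module.FaithfullyFlat R (∀ i, B i)] [∀ i, Module.Flat (B i) (B i ⊗[R] N)] : Module.Flat R N := by
  rw [Module.Flat.iff_rTensor_preserves_injective_linearMap]
  intro A A' _ _ _ _ f hf
  rw [injective_iff_map_eq_zero]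
  intro x hx
  refine (AdeqLib.amitsur_family (R := R) B (A ⊗[R] N)).1 x fun i => ?_
  haveI : Module.Flat R (B i ⊗[R] N) := Module.Flat.trans R (B i) _
  apply (TensorProduct.leftComm R (B i) A N).injective
  apply Module.Flat.rTensor_preserves_injective_linearMap (M := B i ⊗[R] N) f hf
  have key : f.rTensor (B i ⊗[R] N) ∘ₗ (TensorProduct.leftComm R (B i) A N).toLinearMap =
      (TensorProduct.leftComm R (B i) A' N).toLinearMap ∘ₗ (f.rTensor N).lTensor (B i) := by
    ext b a n
    rfl
  refine (LinearMap.congr_fun key ((1 : B i) ⊗ₜ[R] x)).trans ?_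
  simp [hx]

end Groth.Agent.AlgSpLocFree
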