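import Groth.Agent.AlgSpLocFree.Free
import Groth.Agent.AlgSpQC.PushFin
import Groth.Agent.AlgSpQC.MainFP
import Groth.Prelude.Def_AlgSpMor5

/-!
# Finite locally free morphisms and the direct image of the structure sheaf
-/

set_option autoImplicit false
set_option linter.style.haveILetI false
set_option linter.unusedSectionVars false
set_option backward.isDefEq.respectTransparency false
set_option backward.isDefEq.respectTransparency.types false
set_option maxHeartbeats 800000

universe u

open CategoryTheory Limits AlgebraicGeometry Opposite TensorProduct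

noncomputable section

namespace Groth.Agent.AlgSpLocFree

open AlgSpQC

/-- A function is invertible on the open where it is invertible. -/
theorem isUnit_ι_appTop (U : Scheme.{u}) (a : Γ(U, ⊤)) : IsUnit ((U.basicOpen a).ι.appTop a) := by
  rw [Scheme.Opens.ι_appTop]
  have h' := (RingedSpace.isUnit_res_basicOpen U.toRingedSpace a).map
    (U.presheaf.map (homOfLE (le_of_eq (U.basicOpen a).ι_image_top)).op).hom
  refine (congrArg IsUnit ?_).mp h'
  exact (ConcreteCategory.congr_hom (U.presheaf.map_comp _ _) a).symm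

theorem props_of_free (R : Type (u + 1)) [CommRing R] (M : Type (u + 1)) [AddCommGroup M] [Module R M]
    (h : Module.Free R M) (h' : Module.Finite R M) : Module.FinitePresentation R M ∧ Module.Flat R M :=
  ⟨Module.finitePresentation_of_projective R M, Module.Flat.of_free⟩

variable {S : Scheme.{u}}

section Site

variable {X : AlgSp.Sp S}

theorem exists_open_unit {E : AlgSp.EtOver X} (hE : Aff X E) (x : E.obj.left.left)
    {r : (AlgSp.OEt X).obj.obj (op E)} (hr : r ∉ (primeO E x).asIdeal) :
    ∃ (W : AlgSp.EtOver X) (g : W ⟶ E), Aff X W ∧ x ∈ Set.range g.hom.left.left ∧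
      IsUnit (rh (AlgSp.OEt X).obj g r) := by
  haveI : IsAffine E.obj.left.left := hE
  obtain ⟨a, rfl⟩ := (upEquiv X E).surjective r
  have hx : x ∈ E.obj.left.left.basicOpen a := by
    rw [← Scheme.toSpecΓ_preimage_basicOpen]
    intro h
    refine hr ?_
    show (upEquiv X E).symm (upEquiv X E a) ∈ (E.obj.left.left.toSpecΓ x).asIdeal
    rw [RingEquiv.symm_apply_apply]
    exact h
  let D := E.obj.left.left.basicOpen a
  let z : Over.mk (D.ι ≫ E.obj.left.hom) ⟶ E.obj.left := Over.homMk D.ι rfl
  haveI : IsOpenImmersion z.left := inferInstanceAs (IsOpenImmersion D.ι)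
  let W : AlgSp.EtOver X := AlgSp.EtOver.mk ((AlgSp.yon S).map z ≫ E.obj.hom)
    ((AlgSp.repWith_isMultiplicative (S := S) @AlgebraicGeometry.Etale).comp_mem _ _
      ((AlgSp.repWith_yon_map_iff _ _).2 (inferInstance : AlgebraicGeometry.Etale z.left)) E.property)
  refine ⟨W, AlgSp.EtOver.homMk z rfl, (isAffineOpen_top _).basicOpen a, ⟨⟨x, hx⟩, rfl⟩, ?_⟩
  rw [rh_upEquiv]
  exact (isUnit_ι_appTop _ a).map (upEquiv X W)

/-- Finitely presented flat sections are locally free. -/
theorem exists_free_local {M : AlgSp.ModEt X} (hM : QC M) {E : AlgSp.EtOver X} (hE : Aff X E)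
    [Module.FinitePresentation ((AlgSp.OEt X).obj.obj (op E)) (Sec M E)]
    [Module.Flat ((AlgSp.OEt X).obj.obj (op E)) (Sec M E)] (x : E.obj.left.left) :
    ∃ (W : AlgSp.EtOver X) (g : W ⟶ E), Aff X W ∧ x ∈ Set.range g.hom.left.left ∧
      Module.Free ((AlgSp.OEt X).obj.obj (op W)) (Sec M W) := by
  obtain ⟨r, hr, hf⟩ := exists_free_away (R := (AlgSp.OEt X).obj.obj (op E)) (N := Sec M E) (primeO E x)
  obtain ⟨W, g, hW, hx, hu⟩ := exists_open_unit hE x hr
  refine ⟨W, g, hW, hx, ?_⟩
  haveI := hM g hE hW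
  letI : Algebra ((AlgSp.OEt X).obj.obj (op E)) ((AlgSp.OEt X).obj.obj (op W)) :=
    (rh (AlgSp.OEt X).obj g).toAlgebra
  haveI := free_baseChange_of_away (N := Sec M E) r ((AlgSp.OEt X).obj.obj (op W)) hu
  exact Module.Free.of_equiv
    (M := (AlgSp.OEt X).obj.obj (op W) ⊗[(AlgSp.OEt X).obj.obj (op E)] Sec M E)
    (asIso ((θ (AlgSp.OEt X).obj g).app M.val)).toLinearEquiv

/-- A module with finitely presented flat sections over affines is finite locally free. -/
theorem exists_locallyFreeData {M : AlgSp.ModEt X} (hM : QC M)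
    (h : ∀ E, Aff X E → Module.FinitePresentation ((AlgSp.OEt X).obj.obj (op E)) (Sec M E) ∧
      Module.Flat ((AlgSp.OEt X).obj.obj (op E)) (Sec M E)) :
    ∃ q : SheafOfModules.LocalGeneratorsData.{u + 1} M, q.IsLocallyFreeData ∧ q.IsFiniteType := by
  let P : AlgSp.EtOver X → Prop := fun E => Aff X E ∧ Module.Free ((AlgSp.OEt X).obj.obj (op E)) (Sec M E)
  have H := affSite X
  have hcov : (AlgSp.etTop X).CoversTop fun E : {E // P E} => E.1 := fun U => by
    obtain ⟨R, hR, hRA⟩ := H.exists_affine U
    refine (AlgSp.etTop X).transitive hR _ fun V v hv => ?_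
    obtain ⟨Z, a, k, hZ, e⟩ := hRA v hv
    obtain ⟨n, W, g, hW, hP, hs⟩ := exists_family hZ
      (fun W => Module.Free ((AlgSp.OEt X).obj.obj (op W)) (Sec M W)) (fun z => by
        haveI := (h Z hZ).1
        haveI := (h Z hZ).2
        exact exists_free_local hM hZ z)
    refine (AlgSp.etTop X).superset_covering ?_
      ((AlgSp.etTop X).pullback_stable a (H.covers hZ g hW hs))
    intro T t ht
    obtain ⟨i, b, -⟩ := Sieve.mem_ofArrows_iff _ _ _ |>.1 ht
    exact (Sieve.mem_ofObjects_iff _ _).2 ⟨⟨W i, hW i, hP i⟩, ⟨b⟩⟩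
  have hg : ∀ E : {E // P E}, ∃ g : (M.over E.1).GeneratingSections, IsIso g.π ∧ Finite g.I := by
    intro E
    haveI := E.2.2
    haveI := (h E.1 E.2.1).1
    let b := Module.Free.chooseBasis ((AlgSp.OEt X).obj.obj (op E.1)) (Sec M E.1)
    let b' : Module.Basis _ (((AlgSp.OEt X).over E.1).obj.obj (op (Over.mk (𝟙 E.1))))
      ((evalC ((AlgSp.OEt X).over E.1).obj (Over.mk (𝟙 E.1))).obj (overM M E.1).val) := b
    refine ⟨genOf (H.over E.1) Over.mkIdTerminal (hM.over E.1) E.2.1 b' b'.span_eq,
      isIso_genOf_π (H.over E.1) Over.mkIdTerminal (hM.over E.1) E.2.1 b', ?_⟩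
    exact inferInstanceAs (Finite (Module.Free.ChooseBasisIndex _ _))
  choose g hg hgf using hg
  let q : SheafOfModules.LocalGeneratorsData.{u + 1} M :=
    { I := {E // P E}, X := fun E => E.1, coversTop := hcov, generators := g }
  have h1 : q.IsLocallyFreeData := { isIso := fun i => hg i }
  have h2 : q.IsFiniteType := { isFiniteType := fun i => { finite := hgf i } }
  exact ⟨q, h1, h2⟩

/-- Finite locally free modules have finitely presented flat sections over affines. -/
theorem sec_of_locallyFreeData {M : AlgSp.ModEt X} (hM : QC M)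
    (q : SheafOfModules.LocalGeneratorsData.{u + 1} M) (hq : q.IsLocallyFreeData) (hft : q.IsFiniteType)
    {E : AlgSp.EtOver X} (hE : Aff X E) :
    Module.FinitePresentation ((AlgSp.OEt X).obj.obj (op E)) (Sec M E) ∧
      Module.Flat ((AlgSp.OEt X).obj.obj (op E)) (Sec M E) := by
  obtain ⟨n, W, f, hW, hS, hs⟩ := (affSite X).refine_cover hE _ (q.coversTop E)
  have hP : ∀ i, Module.Free ((AlgSp.OEt X).obj.obj (op (W i))) (Sec M (W i)) ∧
      Module.Finite ((AlgSp.OEt X).obj.obj (op (W i))) (Sec M (W i)) := fun i => by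
    obtain ⟨j, ⟨a⟩⟩ := (Sieve.mem_ofObjects_iff _ _).1 (hS i)
    haveI := hq.isIso j
    haveI : Finite (q.generators j).I := (hft.isFiniteType j).finite
    exact free_of_isIso_π ((affSite X).over (q.X j)) (q.generators j) (Over.mk a)
  let R := (AlgSp.OEt X).obj.obj (op E)
  let B := fun i : ULift.{u + 1} (Fin n) => ((AlgSp.OEt X).obj.obj (op (W i.down)) : Type (u + 1))
  letI : ∀ i, Algebra R (B i) := fun i => (rh (AlgSp.OEt X).obj (f i.down)).toAlgebra
  haveI : ∀ i, Module.Flat R (B i) := fun i => (affSite X).flat (f i.down) hE (hW _)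
  haveI : Module.FaithfullyFlat R (∀ i, B i) := faithfullyFlat_family (f := f) (affSite X) hE hW hs
  have hP' : ∀ i, Module.Free (B i) (B i ⊗[R] Sec M E) ∧ Module.Finite (B i) (B i ⊗[R] Sec M E) := fun i => by
    haveI := hM (f i.down) hE (hW _)
    haveI : Module.Free (B i) (Sec M (W i.down)) := (hP i.down).1
    haveI : Module.Finite (B i) (Sec M (W i.down)) := (hP i.down).2
    exact ⟨Module.Free.of_equiv (asIso ((θ (AlgSp.OEt X).obj (f i.down)).app M.val)).toLinearEquiv.symm,
      Module.Finite.equiv (asIso ((θ (AlgSp.OEt X).obj (f i.down)).app M.val)).toLinearEquiv.symm⟩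
  have hfp := fun i => (props_of_free (B i) (B i ⊗[R] Sec M E) (hP' i).1 (hP' i).2).1
  have hfl := fun i => (props_of_free (B i) (B i ⊗[R] Sec M E) (hP' i).1 (hP' i).2).2
  exact ⟨@finitePresentation_of_family R (Sec M E) _ _ _ _ _ B _ _ _ _ hfp,
    @flat_of_family R (Sec M E) _ _ _ _ _ B _ _ _ _ hfl⟩

end Site

variable {X Y : AlgSp.Sp S} {f : X ⟶ Y} (hf : AlgSp.Representable f)

include hf in
theorem isAffineMor_of_isFinLocFreeMor (h : AlgSp.IsFinLocFreeMor f) : AlgSp.IsAffineMor f := by
  intro Z hZ g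
  have hs : Mor2.IsFinLocFree (hf.snd g).left := h.2 g (hf.fst g) (hf.snd g) (hf.isPullback g)
  obtain ⟨h1, -, -⟩ := hs
  haveI := h1
  exact ⟨_, hf.snd g, hf.fst g, hf.isPullback g, isAffine_of_isAffineHom (hf.snd g).left⟩

theorem rπ_props {E : AlgSp.EtOver Y} (hE : Aff Y E) (h : Mor2.IsFinLocFree (hf.snd E.obj.hom).left) :
    (rπ hf E).Finite ∧ (rπ hf E).Flat ∧ (rπ hf E).FinitePresentation := by
  obtain ⟨h1, h2, h3⟩ := h
  haveI := h1
  haveI := h2
  haveI := h3
  haveI : IsAffine E.obj.left.left := hE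
  haveI : IsAffine (hf.pullback E.obj.hom).left := isAffine_of_isAffineHom (hf.snd E.obj.hom).left
  have ba : Function.Bijective (upEquiv X ((AlgSp.EtOver.bc hf).obj E)).toRingHom := (upEquiv X _).bijective
  have bb : Function.Bijective (upEquiv Y E).symm.toRingHom := (upEquiv Y E).symm.bijective
  have g1 : (hf.snd E.obj.hom).left.appTop.hom.Finite := Scheme.Hom.finite_appTop _
  have g2 := HasRingHomProperty.appTop (P := @AlgebraicGeometry.Flat) (hf.snd E.obj.hom).left inferInstance
  have g3 := HasRingHomProperty.appTop (P := @LocallyOfFinitePresentation) (hf.snd E.obj.hom).left inferInstance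
  exact ⟨RingHom.Finite.comp (RingHom.Finite.of_surjective _ ba.2) (g1.comp (RingHom.Finite.of_surjective _ bb.2)),
    RingHom.Flat.comp (RingHom.Flat.comp (RingHom.Flat.of_bijective bb) g2) (RingHom.Flat.of_bijective ba),
    (RingHom.FinitePresentation.of_bijective ba).comp (g3.comp (RingHom.FinitePresentation.of_bijective bb))⟩

theorem sec_push_props {E : AlgSp.EtOver Y} (hE : Aff Y E) (h : Mor2.IsFinLocFree (hf.snd E.obj.hom).left) :
    Module.FinitePresentation ((AlgSp.OEt Y).obj.obj (op E))
        (Sec ((AlgSp.pushModEt hf).obj (AlgSp.unitModEt X)) E) ∧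
      Module.Flat ((AlgSp.OEt Y).obj.obj (op E)) (Sec ((AlgSp.pushModEt hf).obj (AlgSp.unitModEt X)) E) := by
  obtain ⟨g1, g2, g3⟩ := rπ_props hf hE h
  let R := (AlgSp.OEt Y).obj.obj (op E)
  let A := (AlgSp.OEt X).obj.obj (op ((AlgSp.EtOver.bc hf).obj E))
  letI : Algebra R A := (rπ hf E).toAlgebra
  haveI : Module.Finite R A := g1
  haveI : Algebra.FinitePresentation R A := g3
  haveI : Module.Flat R A := g2
  let N := Sec ((AlgSp.pushModEt hf).obj (AlgSp.unitModEt X)) E
  let e : A ≃ₗ[R] N :=
    { toFun := fun a => a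
      invFun := fun a => a
      map_add' := fun _ _ => rfl
      map_smul' := fun _ _ => rfl
      left_inv := fun _ => rfl
      right_inv := fun _ => rfl }
  haveI : Module.FinitePresentation R A := Module.FinitePresentation.of_finite_of_finitePresentation R A
  exact ⟨Module.FinitePresentation.of_equiv e, Module.Flat.of_linearEquiv e.symm⟩

theorem isFinLocFree_snd (haff : AlgSp.IsAffineMor f) {E : AlgSp.EtOver Y} (hE : Aff Y E)
    (h1 : Module.FinitePresentation ((AlgSp.OEt Y).obj.obj (op E))
        (Sec ((AlgSp.pushModEt hf).obj (AlgSp.unitModEt X)) E))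
    (h2 : Module.Flat ((AlgSp.OEt Y).obj.obj (op E)) (Sec ((AlgSp.pushModEt hf).obj (AlgSp.unitModEt X)) E)) :
    Mor2.IsFinLocFree (hf.snd E.obj.hom).left := by
  let R := (AlgSp.OEt Y).obj.obj (op E)
  let A := (AlgSp.OEt X).obj.obj (op ((AlgSp.EtOver.bc hf).obj E))
  letI : Algebra R A := (rπ hf E).toAlgebra
  let N := Sec ((AlgSp.pushModEt hf).obj (AlgSp.unitModEt X)) E
  let e : A ≃ₗ[R] N :=
    { toFun := fun a => a
      invFun := fun a => a
      map_add' := fun _ _ => rfl
      map_smul' := fun _ _ => rfl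
      left_inv := fun _ => rfl
      right_inv := fun _ => rfl }
  haveI : Module.FinitePresentation R A := Module.FinitePresentation.of_equiv e.symm
  haveI : Module.Flat R A := Module.Flat.of_linearEquiv e
  haveI : Algebra.FinitePresentation R A := Algebra.FinitePresentation.of_finitePresentation R A
  have g1 : (rπ hf E).Finite := (inferInstance : Module.Finite R A)
  have g2 : (rπ hf E).Flat := (inferInstance : Module.Flat R A)
  have g3 : (rπ hf E).FinitePresentation := (inferInstance : Algebra.FinitePresentation R A)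
  haveI : IsAffine E.obj.left.left := hE
  haveI : IsAffine (hf.pullback E.obj.hom).left := aff_bc hf haff hE
  let W := (AlgSp.EtOver.bc hf).obj E
  have ba : Function.Bijective (upEquiv X W).symm.toRingHom := (upEquiv X W).symm.bijective
  have bb : Function.Bijective (upEquiv Y E).toRingHom := (upEquiv Y E).bijective
  have he : (hf.snd E.obj.hom).left.appTop.hom =
      (upEquiv X W).symm.toRingHom.comp ((rπ hf E).comp (upEquiv Y E).toRingHom) :=
    RingHom.ext fun a => ((upEquiv X W).symm_apply_apply _).symm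
  have k1 : (hf.snd E.obj.hom).left.appTop.hom.Finite := by
    rw [he]
    exact RingHom.Finite.comp (RingHom.Finite.of_surjective _ ba.2) (g1.comp (RingHom.Finite.of_surjective _ bb.2))
  have k2 : (hf.snd E.obj.hom).left.appTop.hom.Flat := by
    rw [he]
    exact RingHom.Flat.comp (RingHom.Flat.comp (RingHom.Flat.of_bijective bb) g2) (RingHom.Flat.of_bijective ba)
  have k3 : (hf.snd E.obj.hom).left.appTop.hom.FinitePresentation := by
    rw [he]
    exact (RingHom.FinitePresentation.of_bijective ba).comp (g3.comp (RingHom.FinitePresentation.of_bijective bb))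
  exact ⟨(HasAffineProperty.iff_of_isAffine (P := @IsFinite)).2 ⟨inferInstance, k1⟩, (HasRingHomProperty.iff_of_isAffine (P := @AlgebraicGeometry.Flat)).2 k2,
    (HasRingHomProperty.iff_of_isAffine (P := @LocallyOfFinitePresentation)).2 k3⟩

end Groth.Agent.AlgSpLocFree

end
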